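import Cfsg.Agent.H10.K.T.D0

/-! Generated by tools/h10/co2/gk3.py. -/

set_option maxRecDepth 100000
set_option maxHeartbeats 0

namespace H10.KC
open H16 H0.TR H0.Am H0.Co H0.Fi H10.K
open H0.PM (flat)
open scoped commutatorElement

theorem iv_c0 : (Nat.ble 18 18 && Nat.beq (ltAll 18 []) 0 && Nat.beq (ivT0.chk H15.XCo2C.P syP ivr_P syE 7 18 2 2 10 syB 18 [] 0) 0) = true := by decide +kernel
theorem iv4 : allZ (fun i => neL (nth [] ivr_W i) (flat J_W (nth [] [[0], [8], [1], [1, 0]] i))) 0 4 = true := by decide +kernel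
theorem Ac_k : allZ2 (fun a j => force a fun a => force j fun j => cjL T_P T_P 10 H15.XCo2C.B a [j] [j]) 10 10 = true := by decide +kernel
theorem Ap_k : allZ (fun k => force k fun k => fixL T_P 10 H15.XCo2C.B (List.replicate 2 k)) 0 10 = true := by decide +kernel
theorem oA_e_0 : allZ (H0.Fi.orbEnt T_P (rl [nat_lit 3, nat_lit 5, nat_lit 7, nat_lit 2, nat_lit 8] J_P) (nat_lit 2) (nat_lit 10) (nat_lit 5) H15.XCo2C.B oAD oAL oAr oAq oAR) (nat_lit 0) (nat_lit 576) = true := by decide +kernel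
theorem oA_e_1 : allZ (H0.Fi.orbEnt T_P (rl [nat_lit 3, nat_lit 5, nat_lit 7, nat_lit 2, nat_lit 8] J_P) (nat_lit 2) (nat_lit 10) (nat_lit 5) H15.XCo2C.B oAD oAL oAr oAq oAR) (nat_lit 576) (nat_lit 448) = true := by decide +kernel
theorem oA_q : allZ (fun c => Nat.sub (Nat.succ (oAq c)) 9) 0 1024 = true := by decide +kernel
theorem lo : allZ (fun i => cj3 H15.XCo2C.P T_P ivr_P 7 10 10 H15.XCo2C.B (nth [] HO i) (digW 2 0 10 (nth 0 oAR i)) [i]) 0 9 = true := by decide +kernel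
theorem ls : allZ (fun i => cj3 H15.XCo2C.P ivr_P ivr_P 7 10 10 H15.XCo2C.B (nth [] HS i) [i, 0] [nth 0 sg i]) 1 9 = true := by decide +kernel
theorem la : allZ (fun i => cj3 H15.Co2.P ivr_P ivr_P 8 10 10 H15.Co2.B (nth [] HA i) [i] [nth 0 tA i]) 0 10 = true ∧ ∀ i < 10, nth 0 tA i ∈ [0, 1, 3] := by decide +kernel
theorem PLc : ∀ p ∈ PL, p.Prime ∧ (∀ i < 10, 2 ^ i % p ≠ 2 ^ 10 % p) ∧ ¬ p ∣ 743178240 := by decide +kernel
theorem s5c_0 : allZ (s5e) (nat_lit 0) (nat_lit 576) = true := by decide +kernel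
theorem s5c_1 : allZ (s5e) (nat_lit 576) (nat_lit 448) = true := by decide +kernel
theorem r4_a : allZ2 (resEnt T_P T4 E4 I4 2300 44) (nat_lit 18) (nat_lit 44) = true := by decide +kernel
theorem l4 : allZ2 (fun k i => Nat.xor (Nat.div (T4 k i) 2) (Nat.div i 2)) 10 44 = true := by decide +kernel
theorem s4_0 : allZ (fun c => force c fun c => lbl T4 X4 k4 c (digW 2 10 8 c ++ digW 2 10 8 c) []) (nat_lit 0) (nat_lit 256) = true := by decide +kernel
theorem k4c_r_0 : allZ (fun c => force c fun c => loop2 ((fun c e => force e fun e => lbl T4 X4 (K4 c) e (digW 2 10 8 c ++ digW 2 10 8 e) (digW 2 10 8 e ++ digW 2 10 8 c)) c) 0 256) (nat_lit 0) (nat_lit 64) = true := by decide +kernel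
theorem k4c_r_1 : allZ (fun c => force c fun c => loop2 ((fun c e => force e fun e => lbl T4 X4 (K4 c) e (digW 2 10 8 c ++ digW 2 10 8 e) (digW 2 10 8 e ++ digW 2 10 8 c)) c) 0 256) (nat_lit 64) (nat_lit 64) = true := by decide +kernel
theorem k4c_r_2 : allZ (fun c => force c fun c => loop2 ((fun c e => force e fun e => lbl T4 X4 (K4 c) e (digW 2 10 8 c ++ digW 2 10 8 e) (digW 2 10 8 e ++ digW 2 10 8 c)) c) 0 256) (nat_lit 128) (nat_lit 64) = true := by decide +kernel
theorem k4c_r_3 : allZ (fun c => force c fun c => loop2 ((fun c e => force e fun e => lbl T4 X4 (K4 c) e (digW 2 10 8 c ++ digW 2 10 8 e) (digW 2 10 8 e ++ digW 2 10 8 c)) c) 0 256) (nat_lit 192) (nat_lit 64) = true := by decide +kernel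
theorem l4c_r_0 : allZ (fun c => force c fun c => loop2 ((fun e i => force i fun i => bif ((L4 i).testBit e == (apW T4 (digW 2 0 10 e) i).beq i) then 0 else 1) c) 0 44) (nat_lit 0) (nat_lit 320) = true := by decide +kernel

end H10.KC
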