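import Cfsg.Agent.H10.K.T.D0

/-! Generated by tools/h10/co2/gk3.py. -/

set_option maxRecDepth 100000
set_option maxHeartbeats 0

namespace H10.KC
open H16 H0.TR H0.Am H0.Co H0.Fi H10.K
open H0.PM (flat)
open scoped commutatorElement

theorem J_lt : allL (ltAll 7) J_W = true := by decide +kernel
theorem J_m_0_0 : allZ (matEnt (wdsP H15.XCo2C.P J_W) J_P (nat_lit 0)) (nat_lit 0) (nat_lit 2300) = true := by decide +kernel
theorem J_m_1_0 : allZ (matEnt (wdsP H15.XCo2C.P J_W) J_P (nat_lit 1)) (nat_lit 0) (nat_lit 2300) = true := by decide +kernel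
theorem J_m_2_0 : allZ (matEnt (wdsP H15.XCo2C.P J_W) J_P (nat_lit 2)) (nat_lit 0) (nat_lit 2300) = true := by decide +kernel
theorem J_m_3_0 : allZ (matEnt (wdsP H15.XCo2C.P J_W) J_P (nat_lit 3)) (nat_lit 0) (nat_lit 2300) = true := by decide +kernel
theorem J_m_4_0 : allZ (matEnt (wdsP H15.XCo2C.P J_W) J_P (nat_lit 4)) (nat_lit 0) (nat_lit 2300) = true := by decide +kernel
theorem J_m_5_0 : allZ (matEnt (wdsP H15.XCo2C.P J_W) J_P (nat_lit 5)) (nat_lit 0) (nat_lit 2300) = true := by decide +kernel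
theorem J_m_6_0 : allZ (matEnt (wdsP H15.XCo2C.P J_W) J_P (nat_lit 6)) (nat_lit 0) (nat_lit 2300) = true := by decide +kernel
theorem J_m_7_0 : allZ (matEnt (wdsP H15.XCo2C.P J_W) J_P (nat_lit 7)) (nat_lit 0) (nat_lit 2300) = true := by decide +kernel
theorem J_m_8_0 : allZ (matEnt (wdsP H15.XCo2C.P J_W) J_P (nat_lit 8)) (nat_lit 0) (nat_lit 2300) = true := by decide +kernel
theorem J_m_9_0 : allZ (matEnt (wdsP H15.XCo2C.P J_W) J_P (nat_lit 9)) (nat_lit 0) (nat_lit 2300) = true := by decide +kernel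
theorem J_m_10_0 : allZ (matEnt (wdsP H15.XCo2C.P J_W) J_P (nat_lit 10)) (nat_lit 0) (nat_lit 2300) = true := by decide +kernel
theorem J_m_11_0 : allZ (matEnt (wdsP H15.XCo2C.P J_W) J_P (nat_lit 11)) (nat_lit 0) (nat_lit 2300) = true := by decide +kernel
theorem J_m_12_0 : allZ (matEnt (wdsP H15.XCo2C.P J_W) J_P (nat_lit 12)) (nat_lit 0) (nat_lit 2300) = true := by decide +kernel
theorem J_m_13_0 : allZ (matEnt (wdsP H15.XCo2C.P J_W) J_P (nat_lit 13)) (nat_lit 0) (nat_lit 2300) = true := by decide +kernel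
theorem T_lt : allL (ltAll 14) T_W = true := by decide +kernel
theorem T_m_0_0 : allZ (matEnt (wdsP J_P T_W) T_P (nat_lit 0)) (nat_lit 0) (nat_lit 2300) = true := by decide +kernel
theorem T_m_1_0 : allZ (matEnt (wdsP J_P T_W) T_P (nat_lit 1)) (nat_lit 0) (nat_lit 2300) = true := by decide +kernel
theorem T_m_2_0 : allZ (matEnt (wdsP J_P T_W) T_P (nat_lit 2)) (nat_lit 0) (nat_lit 2300) = true := by decide +kernel
theorem T_m_3_0 : allZ (matEnt (wdsP J_P T_W) T_P (nat_lit 3)) (nat_lit 0) (nat_lit 2300) = true := by decide +kernel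
theorem T_m_4_0 : allZ (matEnt (wdsP J_P T_W) T_P (nat_lit 4)) (nat_lit 0) (nat_lit 2300) = true := by decide +kernel
theorem T_m_5_0 : allZ (matEnt (wdsP J_P T_W) T_P (nat_lit 5)) (nat_lit 0) (nat_lit 2300) = true := by decide +kernel
theorem T_m_6_0 : allZ (matEnt (wdsP J_P T_W) T_P (nat_lit 6)) (nat_lit 0) (nat_lit 2300) = true := by decide +kernel
theorem T_m_7_0 : allZ (matEnt (wdsP J_P T_W) T_P (nat_lit 7)) (nat_lit 0) (nat_lit 2300) = true := by decide +kernel
theorem T_m_8_0 : allZ (matEnt (wdsP J_P T_W) T_P (nat_lit 8)) (nat_lit 0) (nat_lit 2300) = true := by decide +kernel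
theorem T_m_9_0 : allZ (matEnt (wdsP J_P T_W) T_P (nat_lit 9)) (nat_lit 0) (nat_lit 2300) = true := by decide +kernel
theorem T_m_10_0 : allZ (matEnt (wdsP J_P T_W) T_P (nat_lit 10)) (nat_lit 0) (nat_lit 2300) = true := by decide +kernel
theorem T_m_11_0 : allZ (matEnt (wdsP J_P T_W) T_P (nat_lit 11)) (nat_lit 0) (nat_lit 2300) = true := by decide +kernel
theorem T_m_12_0 : allZ (matEnt (wdsP J_P T_W) T_P (nat_lit 12)) (nat_lit 0) (nat_lit 2300) = true := by decide +kernel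
theorem T_m_13_0 : allZ (matEnt (wdsP J_P T_W) T_P (nat_lit 13)) (nat_lit 0) (nat_lit 2300) = true := by decide +kernel
theorem T_m_14_0 : allZ (matEnt (wdsP J_P T_W) T_P (nat_lit 14)) (nat_lit 0) (nat_lit 2300) = true := by decide +kernel
theorem T_m_15_0 : allZ (matEnt (wdsP J_P T_W) T_P (nat_lit 15)) (nat_lit 0) (nat_lit 2300) = true := by decide +kernel
theorem T_m_16_0 : allZ (matEnt (wdsP J_P T_W) T_P (nat_lit 16)) (nat_lit 0) (nat_lit 2300) = true := by decide +kernel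
theorem T_m_17_0 : allZ (matEnt (wdsP J_P T_W) T_P (nat_lit 17)) (nat_lit 0) (nat_lit 2300) = true := by decide +kernel
theorem sy_r_0_0 : allZ (resEnt T_P syP syE syI (nat_lit 2300) (nat_lit 1088) (nat_lit 0)) (nat_lit 0) (nat_lit 1088) = true := by decide +kernel
theorem sy_r_1_0 : allZ (resEnt T_P syP syE syI (nat_lit 2300) (nat_lit 1088) (nat_lit 1)) (nat_lit 0) (nat_lit 1088) = true := by decide +kernel
theorem sy_r_2_0 : allZ (resEnt T_P syP syE syI (nat_lit 2300) (nat_lit 1088) (nat_lit 2)) (nat_lit 0) (nat_lit 1088) = true := by decide +kernel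
theorem sy_r_3_0 : allZ (resEnt T_P syP syE syI (nat_lit 2300) (nat_lit 1088) (nat_lit 3)) (nat_lit 0) (nat_lit 1088) = true := by decide +kernel
theorem sy_r_4_0 : allZ (resEnt T_P syP syE syI (nat_lit 2300) (nat_lit 1088) (nat_lit 4)) (nat_lit 0) (nat_lit 1088) = true := by decide +kernel
theorem sy_r_5_0 : allZ (resEnt T_P syP syE syI (nat_lit 2300) (nat_lit 1088) (nat_lit 5)) (nat_lit 0) (nat_lit 1088) = true := by decide +kernel
theorem sy_r_6_0 : allZ (resEnt T_P syP syE syI (nat_lit 2300) (nat_lit 1088) (nat_lit 6)) (nat_lit 0) (nat_lit 1088) = true := by decide +kernel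
theorem sy_r_7_0 : allZ (resEnt T_P syP syE syI (nat_lit 2300) (nat_lit 1088) (nat_lit 7)) (nat_lit 0) (nat_lit 1088) = true := by decide +kernel
theorem sy_r_8_0 : allZ (resEnt T_P syP syE syI (nat_lit 2300) (nat_lit 1088) (nat_lit 8)) (nat_lit 0) (nat_lit 1088) = true := by decide +kernel
theorem sy_r_9_0 : allZ (resEnt T_P syP syE syI (nat_lit 2300) (nat_lit 1088) (nat_lit 9)) (nat_lit 0) (nat_lit 1088) = true := by decide +kernel
theorem sy_r_10_0 : allZ (resEnt T_P syP syE syI (nat_lit 2300) (nat_lit 1088) (nat_lit 10)) (nat_lit 0) (nat_lit 1088) = true := by decide +kernel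
theorem sy_r_11_0 : allZ (resEnt T_P syP syE syI (nat_lit 2300) (nat_lit 1088) (nat_lit 11)) (nat_lit 0) (nat_lit 1088) = true := by decide +kernel
theorem sy_r_12_0 : allZ (resEnt T_P syP syE syI (nat_lit 2300) (nat_lit 1088) (nat_lit 12)) (nat_lit 0) (nat_lit 1088) = true := by decide +kernel
theorem sy_r_13_0 : allZ (resEnt T_P syP syE syI (nat_lit 2300) (nat_lit 1088) (nat_lit 13)) (nat_lit 0) (nat_lit 1088) = true := by decide +kernel
theorem sy_r_14_0 : allZ (resEnt T_P syP syE syI (nat_lit 2300) (nat_lit 1088) (nat_lit 14)) (nat_lit 0) (nat_lit 1088) = true := by decide +kernel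
theorem sy_r_15_0 : allZ (resEnt T_P syP syE syI (nat_lit 2300) (nat_lit 1088) (nat_lit 15)) (nat_lit 0) (nat_lit 1088) = true := by decide +kernel
theorem sy_r_16_0 : allZ (resEnt T_P syP syE syI (nat_lit 2300) (nat_lit 1088) (nat_lit 16)) (nat_lit 0) (nat_lit 1088) = true := by decide +kernel
theorem sy_r_17_0 : allZ (resEnt T_P syP syE syI (nat_lit 2300) (nat_lit 1088) (nat_lit 17)) (nat_lit 0) (nat_lit 1088) = true := by decide +kernel
theorem sy_b : neL H15.XCo2C.B (syB.map syE) = 0 ∧ ltAll 1088 syB = 0 := by decide +kernel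
theorem sy_p : allZ2 (pcEnt syP (nat_lit 2) syB syC) 18 18 = true := by decide +kernel
theorem sy_e : allL (ltAll 18) sye = true := by decide +kernel
theorem syl0_e_0 : allZ (dent syl0 (wdsP syP sye) (nat_lit 1088)) (nat_lit 0) (nat_lit 1023) = true := by decide +kernel
theorem syl0_h : 0 < syl0.n ∧ 0 < syl0.K ∧ syl0.Pt 0 < 1088 ∧ syl0.Q (syl0.Pt 0) = 0 := by decide +kernel
theorem syl1_e_0 : allZ (dent syl1 (wdsP syP sye) (nat_lit 1088)) (nat_lit 0) (nat_lit 127) = true := by decide +kernel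
theorem syl1_h : 0 < syl1.n ∧ 0 < syl1.K ∧ syl1.Pt 0 < 1088 ∧ syl1.Q (syl1.Pt 0) = 0 := by decide +kernel
theorem syl2_e_0 : allZ (dent syl2 (wdsP syP sye) (nat_lit 1088)) (nat_lit 0) (nat_lit 1) = true := by decide +kernel
theorem syl2_h : 0 < syl2.n ∧ 0 < syl2.K ∧ syl2.Pt 0 < 1088 ∧ syl2.Q (syl2.Pt 0) = 0 := by decide +kernel
theorem sy_f2 : (Nat.ble syl2.K 27 && Nat.ble (topK []) syl2.K && fixLetters (wdsP syP sye) (topK []) (syl2.Pt 0)) = true := by decide +kernel
theorem sy_f1 : (Nat.ble syl1.K 27 && Nat.ble (topK [syl2]) syl1.K && fixLetters (wdsP syP sye) (topK [syl2]) (syl1.Pt 0)) = true := by decide +kernel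
theorem sy_f0 : (Nat.ble syl0.K 27 && Nat.ble (topK [syl1, syl2]) syl0.K && fixLetters (wdsP syP sye) (topK [syl1, syl2]) (syl0.Pt 0)) = true := by decide +kernel
theorem sy_c : chainCard [syl0, syl1, syl2] = 2 ^ 18 ∧ ¬ 2 ^ (18 + 1) ∣ 743178240 := by decide +kernel
theorem ivr_lt : allL (ltAll 7) ivr_W = true := by decide +kernel

end H10.KC
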